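import Cfsg.Agent.CA.Structure
import Mathlib.LinearAlgebra.Matrix.ProjectiveSpecialLinearGroup

/-!
# `PSL₂` in characteristic two has abelian centralisers
-/

set_option autoImplicit false
set_option linter.style.haveILetI false

namespace CfsgLib.CA

open Matrix

theorem commute_of_commute_two {F : Type} [Field F] {g M N : Matrix (Fin 2) (Fin 2) F}
    (hg : ¬ (g 0 1 = 0 ∧ g 1 0 = 0 ∧ g 0 0 = g 1 1)) (hM : M * g = g * M) (hN : N * g = g * N) : M * N = N * M := by
  have e : ∀ X : Matrix (Fin 2) (Fin 2) F, X * g = g * X →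
      X 0 1 * g 1 0 = g 0 1 * X 1 0 ∧ X 0 1 * (g 0 0 - g 1 1) = g 0 1 * (X 0 0 - X 1 1) ∧
        X 1 0 * (g 0 0 - g 1 1) = g 1 0 * (X 0 0 - X 1 1) := by
    intro X hX
    have h00 := congrFun (congrFun hX 0) 0
    have h01 := congrFun (congrFun hX 0) 1
    have h10 := congrFun (congrFun hX 1) 0
    simp only [Matrix.mul_apply, Fin.sum_univ_two] at h00 h01 h10
    exact ⟨by linear_combination h00, by linear_combination -h01, by linear_combination h10⟩
  obtain ⟨a1, a2, a3⟩ := e M hM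
  obtain ⟨b1, b2, b3⟩ := e N hN
  have key : M 0 1 * N 1 0 = N 0 1 * M 1 0 ∧ M 0 1 * (N 0 0 - N 1 1) = N 0 1 * (M 0 0 - M 1 1) ∧
      M 1 0 * (N 0 0 - N 1 1) = N 1 0 * (M 0 0 - M 1 1) := by
    by_cases h1 : g 0 1 = 0
    · by_cases h2 : g 1 0 = 0
      · have h3 : g 0 0 - g 1 1 ≠ 0 := fun h3 => hg ⟨h1, h2, sub_eq_zero.1 h3⟩
        rw [h1, zero_mul] at a2 b2
        rw [h2, zero_mul] at a3 b3
        rw [(mul_eq_zero.1 a2).resolve_right h3, (mul_eq_zero.1 a3).resolve_right h3,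
          (mul_eq_zero.1 b2).resolve_right h3, (mul_eq_zero.1 b3).resolve_right h3]
        simp
      · have hM0 : M 0 1 = 0 := by
          rw [h1, zero_mul] at a1
          exact (mul_eq_zero.1 a1).resolve_right h2
        have hN0 : N 0 1 = 0 := by
          rw [h1, zero_mul] at b1
          exact (mul_eq_zero.1 b1).resolve_right h2
        rw [hM0, hN0]
        refine ⟨by simp, by simp, mul_left_cancel₀ h2 ?_⟩
        linear_combination N 1 0 * a3 - M 1 0 * b3
    · have k2 : M 0 1 * (N 0 0 - N 1 1) = N 0 1 * (M 0 0 - M 1 1) :=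
        mul_left_cancel₀ h1 (by linear_combination N 0 1 * a2 - M 0 1 * b2)
      refine ⟨mul_left_cancel₀ h1 ?_, k2, mul_left_cancel₀ h1 ?_⟩
      · linear_combination N 0 1 * a1 - M 0 1 * b1
      · linear_combination -(N 0 0 - N 1 1) * a1 + (M 0 0 - M 1 1) * b1 + g 1 0 * k2
  obtain ⟨k1, k2, k3⟩ := key
  ext i j
  fin_cases i <;> fin_cases j <;> simp [Matrix.mul_apply, Fin.sum_univ_two]
  · linear_combination k1
  · linear_combination -k2
  · linear_combination k3
  · linear_combination -k1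

theorem sl_center_eq_bot {F : Type} [Field F] [CharP F 2] :
    Subgroup.center (SpecialLinearGroup (Fin 2) F) = ⊥ := by
  refine eq_bot_iff.2 fun A hA => ?_
  obtain ⟨r, hr, hrA⟩ := Matrix.SpecialLinearGroup.mem_center_iff.1 hA
  rw [Fintype.card_fin] at hr
  have hr1 : r = 1 := by
    have h : (r + 1) ^ 2 = 0 := by rw [CharTwo.add_sq, hr, one_pow, CharTwo.add_self_eq_zero]
    exact CharTwo.add_eq_zero.1 (pow_eq_zero_iff two_ne_zero |>.1 h)
  refine Subgroup.mem_bot.2 (Subtype.ext ?_)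
  rw [← hrA, hr1, map_one]
  rfl

theorem isCA_psl {F : Type} [Field F] [CharP F 2] : IsCA (ProjectiveSpecialLinearGroup (Fin 2) F) := by
  intro x hx a ha b hb
  obtain ⟨g, rfl⟩ := QuotientGroup.mk_surjective x
  obtain ⟨M, rfl⟩ := QuotientGroup.mk_surjective a
  obtain ⟨N, rfl⟩ := QuotientGroup.mk_surjective b
  have hc : ∀ u v : SpecialLinearGroup (Fin 2) F,
      QuotientGroup.mk (s := Subgroup.center (SpecialLinearGroup (Fin 2) F)) u = QuotientGroup.mk v → u = v := by
    intro u v h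
    have h1 := QuotientGroup.eq.1 h
    rw [sl_center_eq_bot, Subgroup.mem_bot] at h1
    exact inv_mul_eq_one.1 h1
  have hM : M * g = g * M := hc _ _ (mem_Cn.1 ha)
  have hN : N * g = g * N := hc _ _ (mem_Cn.1 hb)
  refine congrArg (QuotientGroup.mk (s := Subgroup.center (SpecialLinearGroup (Fin 2) F))) (Subtype.ext ?_)
  have hg : ¬ ((g : Matrix (Fin 2) (Fin 2) F) 0 1 = 0 ∧ (g : Matrix (Fin 2) (Fin 2) F) 1 0 = 0 ∧
      (g : Matrix (Fin 2) (Fin 2) F) 0 0 = (g : Matrix (Fin 2) (Fin 2) F) 1 1) := by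
    rintro ⟨h1, h2, h3⟩
    refine hx ((QuotientGroup.eq_one_iff g).2 (Matrix.SpecialLinearGroup.mem_center_iff.2 ⟨g.1 0 0, ?_, ?_⟩))
    · have hd := g.2
      rw [Matrix.det_fin_two, h1, h2, mul_zero, sub_zero, ← h3, ← sq] at hd
      rwa [Fintype.card_fin]
    · ext i j
      fin_cases i <;> fin_cases j <;> simp [h1, h2, h3]
  exact commute_of_commute_two hg (congrArg Subtype.val hM) (congrArg Subtype.val hN)

end CfsgLib.CA
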