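import Cfsg.Agent.SharpTwo.Basic
import Cfsg.Agent.S1230
import Cfsg.Agent.SLn.SmallPSL
import Cfsg.Agent.H29.Dickson.Transfer
import Mathlib.GroupTheory.GroupAction.SubMulAction.OfStabilizer
import Mathlib.GroupTheory.GroupAction.MultipleTransitivity

/-!
# Sharply triply transitive groups of degree `2^f + 1`
-/

set_option autoImplicit false
set_option linter.style.haveILetI false

namespace CfsgLib.CA

open MulAction

universe u v

variable {G : Type u} [Group G] [Finite G] {α : Type v} [MulAction G α] [Finite α]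

theorem eq_one_of_fix_three (hsharp : ∀ x : Fin 3 ↪ α, stabilizer G x = ⊥) {g : G} {a b c : α} (hab : a ≠ b)
    (hac : a ≠ c) (hbc : b ≠ c) (ha : g • a = a) (hb : g • b = b) (hc : g • c = c) : g = 1 := by
  let x : Fin 3 ↪ α := ⟨![a, b, c], by
    intro i j h
    fin_cases i <;> fin_cases j <;>
      simp [hab, hac, hbc, Ne.symm hab, Ne.symm hac, Ne.symm hbc] at h ⊢⟩
  have hg : g ∈ stabilizer G x := by
    rw [mem_stabilizer_iff]
    ext i
    fin_cases i
    · exact ha
    · exact hb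
    · exact hc
  rwa [hsharp x, Subgroup.mem_bot] at hg

theorem card_sharp_three [IsMultiplyPretransitive G α 3] (hsharp : ∀ x : Fin 3 ↪ α, stabilizer G x = ⊥) {q : ℕ}
    (hq : Nat.card α = q + 1) (hq2 : 2 ≤ q) : Nat.card G = (q + 1) * q * (q - 1) := by
  classical
  haveI := Fintype.ofFinite α
  rw [Nat.card_eq_fintype_card] at hq
  obtain ⟨x₀⟩ : Nonempty (Fin 3 ↪ α) :=
    Function.Embedding.nonempty_of_card_le (by rw [Fintype.card_fin]; omega)
  have hbij : Function.Bijective (fun g : G => g • x₀) := by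
    refine ⟨fun g h e => ?_, fun y => exists_smul_eq G x₀ y⟩
    have hmem : h⁻¹ * g ∈ stabilizer G x₀ := by
      rw [mem_stabilizer_iff, mul_smul]
      simp only at e
      rw [e, inv_smul_smul]
    rw [hsharp x₀, Subgroup.mem_bot] at hmem
    exact (inv_mul_eq_one.mp hmem).symm
  rw [Nat.card_congr (Equiv.ofBijective _ hbij), Nat.card_eq_fintype_card, Fintype.card_embedding_eq, hq,
    Fintype.card_fin]
  simp [Nat.descFactorial_succ]
  ring

/-- A sharply triply transitive group of degree `2^f + 1`, `f ≥ 2`, is `PSL(2, 2^f)`. -/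
theorem iso_psl_of_sharp_three [IsMultiplyPretransitive G α 3] (hsharp : ∀ x : Fin 3 ↪ α, stabilizer G x = ⊥)
    {f : ℕ} (hf : 2 ≤ f) (hα : Nat.card α = 2 ^ f + 1) :
    ∃ (F : Type) (_ : Field F) (_ : Fintype F), Fintype.card F = 2 ^ f ∧
      Nonempty (G ≃* Matrix.ProjectiveSpecialLinearGroup (Fin 2) F) := by
  classical
  haveI : Fact (Nat.Prime 2) := ⟨Nat.prime_two⟩
  set q := 2 ^ f with hq
  have hq4 : 4 ≤ q := by rw [hq]; exact Nat.pow_le_pow_right two_pos hf
  have hq2 : 2 ∣ q := dvd_pow_self 2 (by omega)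
  have hcardG := card_sharp_three hsharp hα (by omega)
  obtain ⟨a⟩ : Nonempty α := (Nat.card_pos_iff.1 (by omega)).1
  haveI : IsPretransitive G α := isPretransitive_of_is_two_pretransitive (h2 := isMultiplyPretransitive_of_le (G := G) (α := α) (m := 2) (n := 3) (by norm_num) (by omega))
  let Ω := SubMulAction.ofStabilizer G a
  haveI h2Ω : IsMultiplyPretransitive (stabilizer G a) Ω 2 :=
    SubMulAction.ofStabilizer.isMultiplyPretransitive.1 inferInstance
  have hΩcard : Nat.card Ω = q := by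
    rw [SubMulAction.nat_card_ofStabilizer_eq, hα]; omega
  have hsharp2 : ∀ x : Fin 2 ↪ Ω, stabilizer (stabilizer G a) x = ⊥ := by
    intro x
    refine eq_bot_iff.2 fun g hg => ?_
    rw [mem_stabilizer_iff] at hg
    have h0 := congrArg (fun y : Fin 2 ↪ Ω => ((y 0 : Ω) : α)) hg
    have h1 := congrArg (fun y : Fin 2 ↪ Ω => ((y 1 : Ω) : α)) hg
    refine Subgroup.mem_bot.2 (Subtype.ext (eq_one_of_fix_three hsharp (g := (g : G)) (a := a)
      (Ne.symm (x 0).2) (Ne.symm (x 1).2) (fun h => absurd (x.injective (Subtype.ext h)) (by decide)) g.2 h0 h1))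
  obtain ⟨p, j, N, hp, hj, hpq, hNcard, hNn, hNmem, hNab, hNexp, hNfix, -⟩ :=
    SharpTwo.exists_regular_normal hsharp2 (by omega)
  have hp2 : p = 2 := by
    rw [hΩcard] at hpq
    exact ((Nat.prime_dvd_prime_iff_eq Nat.prime_two hp).1 (Nat.prime_two.dvd_of_dvd_pow (hpq ▸ hq2))).symm
  subst hp2
  rw [hΩcard] at hpq
  rw [← hpq] at hNcard
  set T₀ : Subgroup G := N.map (stabilizer G a).subtype with hT₀
  have hT₀card : Nat.card T₀ = q := by
    rw [hT₀, Subgroup.card_map_of_injective (stabilizer G a).subtype_injective, hNcard]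
  have hfac : (Nat.card G).factorization 2 = f := by
    rw [hcardG, Nat.factorization_mul (by positivity) (by omega), Nat.factorization_mul (by omega) (by omega)]
    simp only [Finsupp.coe_add, Pi.add_apply]
    rw [Nat.factorization_eq_zero_of_not_dvd (n := q + 1) (by omega),
      Nat.factorization_eq_zero_of_not_dvd (n := q - 1) (by omega), hq, Nat.Prime.factorization_pow Nat.prime_two]
    simp
  let T : Sylow 2 G := Sylow.ofCard T₀ (by rw [hT₀card, hfac])
  have hTmem : ∀ t : G, t ∈ (T : Subgroup G) ↔ ∃ ht : t ∈ stabilizer G a, (⟨t, ht⟩ : stabilizer G a) ∈ N := by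
    intro t
    rw [Sylow.coe_ofCard, hT₀, Subgroup.mem_map]
    exact ⟨fun ⟨y, hy, e⟩ => e ▸ ⟨y.2, hy⟩, fun ⟨ht, hN⟩ => ⟨_, hN, rfl⟩⟩
  -- centralisers of the involutions of `T`
  have hcent : ∀ t ∈ (T : Subgroup G), t ≠ 1 → ∀ c : G, Commute c t → c ∈ (T : Subgroup G) := by
    intro t ht ht1 c hc
    obtain ⟨hta, htN⟩ := (hTmem t).1 ht
    have htfix : ∀ b : α, t • b = b → b = a := by
      intro b hb
      by_contra hba
      exact ht1 (congrArg Subtype.val (hNfix _ htN ⟨b, hba⟩ (Subtype.ext hb)))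
    have hca : c ∈ stabilizer G a := by
      refine mem_stabilizer_iff.2 (htfix _ ?_)
      rw [← mul_smul, ← hc.eq, mul_smul, mem_stabilizer_iff.1 hta]
    refine (hTmem c).2 ⟨hca, (hNmem _).2 ?_⟩
    by_cases hfree : ∀ b : Ω, (⟨c, hca⟩ : stabilizer G a) • b ≠ b
    · exact Or.inr hfree
    push Not at hfree
    obtain ⟨b, hb⟩ := hfree
    have hb' : c • (b : α) = b := congrArg Subtype.val hb
    refine Or.inl (Subtype.ext (eq_one_of_fix_three hsharp (g := c) (a := a) (b := (b : α)) (c := t • (b : α))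
      (Ne.symm b.2) ?_ ?_ hca hb' ?_))
    · intro e
      exact b.2 (MulAction.injective t (e.symm.trans (mem_stabilizer_iff.1 hta).symm))
    · exact fun e => b.2 (htfix _ e.symm)
    · rw [← mul_smul, hc.eq, mul_smul, hb']
  have habT : ∀ x ∈ (T : Subgroup G), ∀ y ∈ (T : Subgroup G), x * y = y * x ∧ x ^ 2 = 1 := by
    intro x hx y hy
    obtain ⟨hxa, hxN⟩ := (hTmem x).1 hx
    obtain ⟨hya, hyN⟩ := (hTmem y).1 hy
    exact ⟨congrArg Subtype.val (hNab _ hxN _ hyN), congrArg Subtype.val (hNexp _ hxN)⟩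
  have hC : ∀ t : G, orderOf t = 2 → IsMulCommutative (Subgroup.centralizer ({t} : Set G)) ∧
      ∀ c ∈ Subgroup.centralizer ({t} : Set G), c ^ 2 = 1 := by
    intro t ht
    obtain ⟨Q, hQ⟩ := (IsPGroup.of_card (n := 1) (by rw [Nat.card_zpowers, ht, pow_one]) :
      IsPGroup 2 (Subgroup.zpowers t)).exists_le_sylow
    obtain ⟨g, hg⟩ := MulAction.exists_smul_eq G Q T
    have hgt : g * t * g⁻¹ ∈ (T : Subgroup G) := by
      rw [← hg]
      exact Subgroup.mem_map.2 ⟨t, hQ (Subgroup.mem_zpowers t), rfl⟩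
    have hgt1 : g * t * g⁻¹ ≠ 1 := fun h => by
      rw [mul_inv_eq_one, mul_eq_left] at h
      rw [h, orderOf_one] at ht; omega
    have hin : ∀ c ∈ Subgroup.centralizer ({t} : Set G), g * c * g⁻¹ ∈ (T : Subgroup G) := fun c hc =>
      hcent _ hgt hgt1 _ (Commute.conj (Subgroup.mem_centralizer_singleton_iff.1 hc) g)
    refine ⟨⟨⟨fun x y => Subtype.ext ?_⟩⟩, fun c hc => ?_⟩
    · have h := (habT _ (hin x x.2) _ (hin y y.2)).1
      apply (MulAut.conj g).injective
      simp only [Subgroup.coe_mul, map_mul, MulAut.conj_apply]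
      exact h
    · have h := (habT _ (hin c hc) _ (hin c hc)).2
      rw [_root_.conj_pow, mul_inv_eq_one, mul_eq_left] at h
      exact h
  have hTcard : Nat.card (T : Subgroup G) = q := hT₀card
  have hnc : ¬ IsCyclic (T : Subgroup G) := by
    intro hcyc
    obtain ⟨g, hg⟩ := hcyc.exists_ofOrder_eq_natCard
    rw [hTcard] at hg
    have h2 : g ^ 2 = 1 := Subtype.ext (habT g g.2 g g.2).2
    have := orderOf_dvd_of_pow_eq_one h2
    have := Nat.le_of_dvd two_pos (hg ▸ this)
    omega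
  have hnn : ¬ (T : Subgroup G).Normal := by
    intro hn
    haveI : Nontrivial (T : Subgroup G) := Finite.one_lt_card_iff_nontrivial.1 (by omega)
    obtain ⟨⟨t, ht⟩, ht0⟩ := exists_ne (1 : (T : Subgroup G))
    have ht1 : t ≠ 1 := fun e => ht0 (Subtype.ext e)
    obtain ⟨b, hb⟩ : ∃ b : α, b ≠ a := by
      haveI : Nontrivial α := Finite.one_lt_card_iff_nontrivial.1 (by omega)
      exact exists_ne a
    obtain ⟨g, hg⟩ := exists_smul_eq G b a
    obtain ⟨hta, htN⟩ := (hTmem _).1 (hn.conj_mem t ht g)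
    obtain ⟨hta', htN'⟩ := (hTmem t).1 ht
    have htb : t • b = b := by
      have h := mem_stabilizer_iff.1 hta
      rw [mul_smul, mul_smul, show g⁻¹ • a = b by rw [← hg, inv_smul_smul], ← hg] at h
      exact MulAction.injective g h
    exact ht1 (congrArg Subtype.val (hNfix _ htN' ⟨b, hb⟩ (Subtype.ext htb)))
  obtain ⟨F, hF, hFf, hcard, hiso⟩ := Cfsg.Agent.S1230.result T hnc hnn hC
  exact ⟨F, hF, hFf, by rw [hcard, Sylow.coe_ofCard, hT₀card], hiso⟩

end CfsgLib.CA
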