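import Cfsg.Agent.CA.Even

/-!
# An abelian TI subgroup holding the centralisers of its elements and an involution has exponent `2`
-/

set_option autoImplicit false
set_option linter.style.haveILetI false
set_option linter.unusedSectionVars false

namespace CfsgLib.CA

open Cfsg CfsgLib.CharBasics CfsgLib.Exceptional
open scoped ComplexConjugate

universe u

variable {G : Type u} [Group G] [Fintype G]

theorem mem_Nz_of_conj {A : Subgroup G} (hK : Hyp A) {g k : G} (hk : k ∈ A) (hk1 : k ≠ 1)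
    (hg : g * k * g⁻¹ ∈ A) : g ∈ Nz A := by
  by_contra hgN
  exact hk1 (hK.ti g hgN k hk hg)

set_option maxHeartbeats 1600000 in
/-- With a single class of involutions, all met in `A` by those of the normaliser, `A` has exponent `2`. -/
theorem sq_eq_one_of_hyp {A : Subgroup G} (hK : Hyp A) {z : G} (hzA : z ∈ A) (hz : orderOf z = 2)
    (hNtop : Nz A ≠ ⊤) (hcls : ∀ x : G, IsConj z x ↔ orderOf x = 2)
    (hinvN : ∀ x : G, orderOf x = 2 → x ∈ Nz A → x ∈ A) : ∀ a ∈ A, a ^ 2 = 1 := by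
  classical
  haveI : Fintype (IrrCharacter G) := Fintype.ofFinite _
  have hz1 : z ≠ 1 := fun h => by rw [h, orderOf_one] at hz; omega
  have hbot : A ≠ ⊥ := fun h => hz1 (by rw [h, Subgroup.mem_bot] at hzA; exact hzA)
  have hne1 : ∀ x : G, orderOf x = 2 → x ≠ 1 := fun x hx h => by rw [h, orderOf_one] at hx; omega
  have hinvG : ∀ x y : G, y ∈ A → y ≠ 1 → orderOf x = 2 → orderOf (x * y) = 2 → x ∈ A := by
    intro x y hy hy1 hx hxy
    have h1 : x * y * (x * y) = 1 := by rw [← sq, ← hxy, pow_orderOf_eq_one]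
    have h2 : x * x = 1 := by rw [← sq, ← hx, pow_orderOf_eq_one]
    have h3 : x * y * x⁻¹ = y⁻¹ := by
      rw [inv_eq_of_mul_eq_one_left h2]
      refine eq_inv_of_mul_eq_one_left ?_
      rw [mul_assoc (x * y) x y]; exact h1
    exact hinvN x hx (mem_Nz_of_conj hK hy hy1 (h3 ▸ inv_mem hy))
  -- the class of `z` in the normaliser
  let z' : Nz A := ⟨z, Subgroup.le_normalizer hzA⟩
  have hz' : orderOf z' = 2 := by rw [Subgroup.orderOf_mk, hz]
  have hclsN : ∀ x : Nz A, IsConj z' x ↔ orderOf x = 2 := by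
    intro x
    refine ⟨fun h => ?_, fun hx => ?_⟩
    · obtain ⟨g, rfl⟩ := isConj_iff.1 h
      exact (MulEquiv.orderOf_eq (MulAut.conj g) z').trans hz'
    · rw [← Subgroup.orderOf_coe] at hx
      obtain ⟨g, hg⟩ := isConj_iff.1 ((hcls _).2 hx)
      refine isConj_iff.2 ⟨⟨g, mem_Nz_of_conj hK hzA hz1 ?_⟩, Subtype.ext hg⟩
      rw [hg]; exact hinvN _ hx x.2
  have hinvN' : ∀ x y : Nz A, y ∈ Kn A → y ≠ 1 → orderOf x = 2 → orderOf (x * y) = 2 → x ∈ Kn A := fun x _ _ _ hx _ =>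
    hinvN x (by rw [Subgroup.orderOf_coe]; exact hx) x.2
  -- counting
  set e := ee A with he
  set n := Nat.card (Rels A) with hn
  set a := Nat.card A with ha
  have hna' : e * n + 1 = a := hK.card_rels_mul hbot
  have he1 : 1 < e := hK.one_lt_ee
  have hnumN : numInv (Kn A) = e := by
    have h1 : numInv (Kn A) = Nat.card {x : Nz A // IsConj z' x} := Nat.card_congr (Equiv.subtypeEquivRight fun x => by
      refine ⟨fun h => (hclsN x).2 h.2, fun h => ⟨?_, (hclsN x).1 h⟩⟩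
      exact hinvN x (by rw [Subgroup.orderOf_coe]; exact (hclsN x).1 h) x.2)
    have h2 : Subgroup.centralizer ({z'} : Set (Nz A)) = Kn A := by
      refine le_antisymm (hK.cent' z' hzA fun h => hz1 (congrArg Subtype.val h)) fun y hy => ?_
      exact Subgroup.mem_centralizer_singleton_iff.2 (Subtype.ext (hK.ab _ hy _ hzA))
    rw [h1, card_conjClass, h2]
  have hnumG : numInv A = e := by
    rw [← hnumN]
    exact Nat.card_congr
      { toFun := fun x => ⟨⟨x.1, Subgroup.le_normalizer x.2.1⟩, x.2.1, by rw [Subgroup.orderOf_mk]; exact x.2.2⟩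
        invFun := fun x => ⟨x.1.1, x.2.1, by rw [Subgroup.orderOf_coe]; exact x.2.2⟩
        left_inv := fun _ => rfl
        right_inv := fun _ => rfl }
  let Ω : Subgroup G :=
    { carrier := {x | x ∈ A ∧ x ^ 2 = 1}
      one_mem' := ⟨one_mem A, one_pow 2⟩
      mul_mem' := fun {x y} hx hy => ⟨mul_mem hx.1 hy.1, by
        rw [(show Commute x y from hK.ab x hx.1 y hy.1).mul_pow, hx.2, hy.2, one_mul]⟩
      inv_mem' := fun {x} hx => ⟨inv_mem hx.1, by rw [inv_pow, hx.2, inv_one]⟩ }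
  have hΩA : Ω ≤ A := fun x hx => hx.1
  have hΩcard : Nat.card Ω = e + 1 := by
    have h1 : Nat.card {x : Ω // x ≠ 1} = numInv A := Nat.card_congr
      { toFun := fun x => ⟨x.1.1, x.1.2.1, orderOf_eq_prime x.1.2.2 fun h => x.2 (Subtype.ext h)⟩
        invFun := fun x => ⟨⟨x.1, x.2.1, by have := pow_orderOf_eq_one x.1; rwa [x.2.2] at this⟩, fun h => hne1 _ x.2.2 (congrArg Subtype.val h)⟩
        left_inv := fun _ => rfl
        right_inv := fun _ => rfl }
    rw [← hnumG, ← h1, Nat.card_eq_fintype_card, Nat.card_eq_fintype_card, Fintype.card_subtype_compl, Fintype.card_subtype_eq]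
    have : 0 < Fintype.card Ω := Fintype.card_pos
    omega
  have hdvd : e + 1 ∣ a := hΩcard ▸ Subgroup.card_dvd_of_le hΩA
  by_contra hne
  push Not at hne
  obtain ⟨y, hyA, hy2⟩ := hne
  have hy1 : y ≠ 1 := fun h => hy2 (by rw [h, one_pow])
  have hlt : e + 1 < a := by
    refine lt_of_le_of_ne (Nat.le_of_dvd Nat.card_pos hdvd) fun heq => hy2 ?_
    have : Ω = A := Subgroup.eq_of_le_of_card_ge hΩA (by rw [hΩcard, heq])
    exact (this.ge hyA).2
  have hne2 : e + 2 ≤ n := by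
    obtain ⟨k, hk⟩ := hdvd
    have h2 : 2 ≤ n := by
      by_contra hc
      interval_cases n <;> omega
    -- `n ≡ 1` modulo `e + 1`
    have h3 : ((e + 1 : ℕ) : ℤ) ∣ (n : ℤ) - 1 := by
      refine ⟨(n : ℤ) - k, ?_⟩
      have : (e : ℤ) * n + 1 = ((e : ℤ) + 1) * k := by exact_mod_cast hna'.trans hk
      push_cast
      linarith
    have := Int.le_of_dvd (by omega) h3
    omega
  obtain ⟨F⟩ := exists_fam hK (by omega)
  let y' : Nz A := ⟨y, Subgroup.le_normalizer hyA⟩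
  have hy'1 : y' ≠ 1 := fun h => hy1 (congrArg Subtype.val h)
  have hz'1 : z' ≠ 1 := fun h => hz1 (congrArg Subtype.val h)
  -- in the normaliser
  obtain ⟨hP1, hP0⟩ := pairs_card (Kn A) (fun a ha b hb => Subtype.ext (hK.ab _ ha _ hb)) z' hclsN hzA hinvN'
  rw [hnumN] at hP1
  have hP0' := hP0 y' hyA fun h => hy2 (congrArg Subtype.val h)
  have hN := pairs_diff z' z' y'
  rw [hP0', Nat.cast_zero, sub_zero, card_conjClass] at hN
  have hkN : (Subgroup.centralizer ({z'} : Set (Nz A))).index = e := by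
    rw [← card_conjClass, ← hnumN]
    exact Nat.card_congr (Equiv.subtypeEquivRight fun x => by
      refine ⟨fun h => ⟨?_, (hclsN x).1 h⟩, fun h => (hclsN x).2 h.2⟩
      exact hinvN x (by rw [Subgroup.orderOf_coe]; exact (hclsN x).1 h) x.2)
  have hcardN : Nat.card (Nz A) = a * e := by
    show _ = Nat.card A * ee A
    rw [← hK.card_Kn, Subgroup.card_mul_index]
  have hsplit : ∀ f : IrrCharacter (Nz A) → ℂ,
      (∀ ψ : IrrCharacter (Nz A), ¬ Exceptional.Rel (Kn A) (ψ : ↥(Nz A) → ℂ) → f ψ = 0) → ∑ ψ, f ψ = ∑ χ : Rels A, f χ.1 := by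
    intro f hf
    rw [← Finset.sum_filter_add_sum_filter_not Finset.univ
        (fun ψ : IrrCharacter (Nz A) => Exceptional.Rel (Kn A) (ψ : ↥(Nz A) → ℂ)),
      Finset.sum_eq_zero (s := Finset.univ.filter fun ψ : IrrCharacter (Nz A) => ¬ Exceptional.Rel (Kn A) (ψ : ↥(Nz A) → ℂ))
        (fun ψ hψ => hf ψ (Finset.mem_filter.1 hψ).2), add_zero,
      Finset.sum_subtype (p := fun χ : IrrCharacter (Nz A) => Exceptional.Rel (Kn A) (χ : ↥(Nz A) → ℂ))
        (Finset.univ.filter _) (by simp)]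
  have hDzero : ∀ ψ : IrrCharacter (Nz A), ¬ Exceptional.Rel (Kn A) (ψ : ↥(Nz A) → ℂ) →
      conj ((ψ : ↥(Nz A) → ℂ) z') - conj ((ψ : ↥(Nz A) → ℂ) y') = 0 := fun ψ h => by
    rw [not_rel h (show z' ∈ Kn A from hzA), not_rel h (show y' ∈ Kn A from hyA), sub_self]
  set D : Rels A → ℂ := fun χ => conj ((χ.1 : ↥(Nz A) → ℂ) z') - conj ((χ.1 : ↥(Nz A) → ℂ) y') with hD
  rw [hkN, hsplit _ (fun ψ h => by rw [hDzero ψ h, mul_zero, zero_div]),
    Finset.sum_congr rfl fun χ _ => by rw [apply_one (isCharacter_of_irr χ.1.2), hK.rel_deg χ],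
    ← Finset.sum_div, hcardN] at hN
  have hP1' : (Nat.card {p : Nz A × Nz A // IsConj z' p.1 ∧ IsConj z' p.2 ∧ p.1 * p.2 = z'} : ℂ) = (e : ℂ) - 1 := by
    rw [← hP1]; push_cast; ring
  rw [hP1', Nat.cast_mul] at hN
  have heC : (e : ℂ) ≠ 0 := Nat.cast_ne_zero.2 (by omega)
  have hquad : ∑ χ : Rels A, (χ.1 : ↥(Nz A) → ℂ) z' * (χ.1 : ↥(Nz A) → ℂ) z' * D χ = (a : ℂ) * ((e : ℂ) - 1) := by
    apply mul_left_cancel₀ heC
    have : (e : ℂ) * ∑ χ : Rels A, (χ.1 : ↥(Nz A) → ℂ) z' * (χ.1 : ↥(Nz A) → ℂ) z' * D χ =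
        (e : ℂ) ^ 2 * ((∑ χ : Rels A, (χ.1 : ↥(Nz A) → ℂ) z' * (χ.1 : ↥(Nz A) → ℂ) z' * D χ) / (e : ℂ)) := by
      field_simp
    rw [this]
    refine hN.trans ?_
    ring
  have hconjN : ¬ IsConj z' y' := fun h => by
    have h' := (hclsN y').1 h
    rw [Subgroup.orderOf_mk] at h'
    exact hy2 (by rw [← h', pow_orderOf_eq_one])
  have hlin : ∑ χ : Rels A, (χ.1 : ↥(Nz A) → ℂ) z' * D χ = (a : ℂ) := by
    have hC : Subgroup.centralizer ({z'} : Set (Nz A)) = Kn A := by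
      refine le_antisymm (hK.cent' z' hzA hz'1) fun y hy => ?_
      exact Subgroup.mem_centralizer_singleton_iff.2 (Subtype.ext (hK.ab _ hy _ hzA))
    have h1 := sum_col z' z'
    have h2 := sum_col z' y'
    rw [if_pos (IsConj.refl z'), hC, hK.card_Kn] at h1
    rw [if_neg hconjN] at h2
    rw [← hsplit (fun ψ => (ψ : ↥(Nz A) → ℂ) z' * (conj ((ψ : ↥(Nz A) → ℂ) z') - conj ((ψ : ↥(Nz A) → ℂ) y')))
      (fun ψ h => by rw [hDzero ψ h, mul_zero])]
    simp only [mul_sub, Finset.sum_sub_distrib]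
    rw [h1, h2, sub_zero]
  have hconst : ∑ χ : Rels A, D χ = 0 := by
    simp only [hD, Finset.sum_sub_distrib, ← map_sum]
    rw [hK.sum_rel (k := z') hzA hz'1, hK.sum_rel (k := y') hyA hy'1, sub_self]
  -- in `G`
  obtain ⟨hQ1, hQ0⟩ := pairs_card A hK.ab z hcls hzA hinvG
  rw [hnumG] at hQ1
  have hG := pairs_diff z z y
  rw [hQ0 y hyA hy2, Nat.cast_zero, sub_zero, card_conjClass] at hG
  have hQ1' : (Nat.card {p : G × G // IsConj z p.1 ∧ IsConj z p.2 ∧ p.1 * p.2 = z} : ℂ) = (e : ℂ) - 1 := by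
    rw [← hQ1]; push_cast; ring
  rw [hQ1'] at hG
  set M := (Nz A).index with hM
  have hGcard : Nat.card G = a * e * M := by rw [← hcardN]; exact (Subgroup.card_mul_index _).symm
  have hkG : A.index = e * M := by
    have h1 := Subgroup.card_mul_index A
    rw [← ha, hGcard, mul_assoc] at h1
    exact Nat.eq_of_mul_eq_mul_left Nat.card_pos h1
  have hterm : ∀ φ : IrrCharacter G, φ ∉ Finset.univ.image F.f →
      (φ : G → ℂ) z * (φ : G → ℂ) z * (conj ((φ : G → ℂ) z) - conj ((φ : G → ℂ) y)) / (φ : G → ℂ) 1 = 0 := by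
    intro φ hφ
    obtain ⟨d, hd⟩ := F.other φ fun ⟨χ, hχ⟩ => hφ (Finset.mem_image.2 ⟨χ, Finset.mem_univ _, hχ⟩)
    rw [hd z hzA hz1, hd y hyA hy1, sub_self, mul_zero, zero_div]
  rw [show Subgroup.centralizer ({z} : Set G) = A from hK.centralizer_eq hzA hz1, hkG, hGcard,
    ← Finset.sum_subset (Finset.subset_univ (Finset.univ.image F.f)) (fun φ _ h => hterm φ h),
    Finset.sum_image F.inj.injOn] at hG
  have hval : ∀ χ : Rels A, (F.f χ : G → ℂ) z * (F.f χ : G → ℂ) z *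
      (conj ((F.f χ : G → ℂ) z) - conj ((F.f χ : G → ℂ) y)) / (F.f χ : G → ℂ) 1 =
      ((F.ε : ℂ) * (F.c : ℂ) ^ 2 * D χ + 2 * (F.c : ℂ) * ((χ.1 : ↥(Nz A) → ℂ) z' * D χ) +
        (F.ε : ℂ) * ((χ.1 : ↥(Nz A) → ℂ) z' * (χ.1 : ↥(Nz A) → ℂ) z' * D χ)) / (F.X : ℂ) := by
    intro χ
    rw [F.val χ z' hzA hz'1, F.val χ y' hyA hy'1, apply_one (isCharacter_of_irr (F.f χ).2), F.deg]
    simp only [hD, map_add, map_mul, map_intCast]
    rcases F.sign with h | h <;> rw [h] <;> push_cast <;> ring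
  rw [Finset.sum_congr rfl fun χ _ => hval χ, ← Finset.sum_div, Finset.sum_add_distrib, Finset.sum_add_distrib,
    ← Finset.mul_sum, ← Finset.mul_sum, ← Finset.mul_sum, hconst, hlin, hquad] at hG
  obtain ⟨χ₀⟩ : Nonempty (Rels A) := (Nat.card_pos_iff.1 (show 0 < n by omega)).1
  have hX : 0 < F.X := F.deg χ₀ ▸ charDegree_pos (F.f χ₀).2
  have hM1 : 1 < M := Subgroup.one_lt_index_of_ne_top hNtop
  have heq : ((e : ℤ) * M) * (2 * F.c + F.ε * ((e : ℤ) - 1)) = (F.X : ℤ) * ((e : ℤ) - 1) := by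
    apply Int.cast_injective (α := ℂ)
    push_cast at hG ⊢
    have hXC : (F.X : ℂ) ≠ 0 := Nat.cast_ne_zero.2 hX.ne'
    have haC : (a : ℂ) ≠ 0 := Nat.cast_ne_zero.2 Nat.card_pos.ne'
    have hMC : (M : ℂ) ≠ 0 := Nat.cast_ne_zero.2 (by omega)
    field_simp at hG
    apply mul_left_cancel₀ haC
    linear_combination hG
  -- `c = 0`
  have hc : F.c = 0 := by
    have h1 := F.col_bound hK hzA hz1 ∅ (fun φ h => absurd h (Finset.notMem_empty φ))
    rw [Finset.sum_empty, add_zero] at h1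
    have h2 : (n : ℤ) * F.c ^ 2 - 2 * F.ε * F.c ≤ (e : ℤ) - 1 := by
      have : ((((n : ℤ) * F.c ^ 2 - 2 * F.ε * F.c) : ℤ) : ℝ) ≤ (((e : ℤ) - 1 : ℤ) : ℝ) := by push_cast; linarith
      exact_mod_cast this
    by_contra hc
    have hc2 : 1 ≤ F.c ^ 2 := by nlinarith [Int.one_le_abs hc, sq_abs F.c, abs_nonneg F.c]
    have hne2' : ((e : ℤ) + 2) ≤ n := by exact_mod_cast hne2
    rcases F.sign with h | h <;> rw [h] at h2 <;> nlinarith [sq_nonneg (F.c - 1), sq_nonneg (F.c + 1)]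
  rw [hc, mul_zero, zero_add] at heq
  have hXval : (F.X : ℤ) = F.ε * ((e : ℤ) * M) := by
    have he' : ((e : ℤ) - 1) ≠ 0 := by omega
    exact mul_right_cancel₀ he' (by linarith)
  have hsum : n * F.X ^ 2 ≤ a * e * M := by
    rw [← hGcard, ← sum_sq_degree (G := G)]
    calc n * F.X ^ 2 = ∑ φ ∈ Finset.univ.image F.f, charDegree (φ : G → ℂ) ^ 2 := by
          rw [Finset.sum_image F.inj.injOn, Finset.sum_congr rfl fun χ _ => by rw [F.deg χ], Finset.sum_const,
            Finset.card_univ, smul_eq_mul, ← Nat.card_eq_fintype_card]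
      _ ≤ _ := Finset.sum_le_sum_of_subset (Finset.subset_univ _)
  have hX2 : F.X = e * M := by
    rcases F.sign with h | h <;> rw [h] at hXval
    · exact_mod_cast (hXval.trans (one_mul _))
    · nlinarith
  rw [hX2, ← hna'] at hsum
  have h5 : n * (e * M) ≤ e * n + 1 :=
    Nat.le_of_mul_le_mul_right (by calc n * (e * M) * (e * M) = n * (e * M) ^ 2 := by ring
      _ ≤ _ := hsum
      _ = (e * n + 1) * (e * M) := by ring) (Nat.mul_pos (by omega) (by omega))
  nlinarith [Nat.mul_le_mul_left (n * e) (show 2 ≤ M by omega), Nat.mul_le_mul (show 2 ≤ n by omega) (show 2 ≤ e by omega)]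

end CfsgLib.CA
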