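import Cfsg.Agent.S0851
import Cfsg.Agent.Exceptional.FrobTI
import Cfsg.Agent.CharBasics.Extra

/-!
# The exceptional family of an abelian TI subgroup containing the centralisers of its elements
-/

set_option autoImplicit false
set_option linter.style.haveILetI false
set_option linter.unusedSectionVars false

namespace CfsgLib.CA

open Cfsg CfsgLib.CharBasics CfsgLib.Exceptional
open scoped ComplexConjugate

universe u

variable {G : Type u} [Group G] [Fintype G]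

/-- An abelian TI subgroup, properly contained in its normaliser, containing the centralisers of its elements. -/
structure Hyp (K : Subgroup G) : Prop where
  ti : ∀ g : G, g ∉ Subgroup.normalizer (K : Set G) → ∀ k ∈ K, g * k * g⁻¹ ∈ K → k = 1
  lt : K < Subgroup.normalizer (K : Set G)
  cent : ∀ k ∈ K, k ≠ 1 → Subgroup.centralizer ({k} : Set G) ≤ K
  ab : ∀ a ∈ K, ∀ b ∈ K, a * b = b * a

/-- The normaliser. -/
abbrev Nz (K : Subgroup G) : Subgroup G := Subgroup.normalizer (K : Set G)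

/-- `K` inside its normaliser. -/
abbrev Kn (K : Subgroup G) : Subgroup (Nz K) := K.subgroupOf (Nz K)

/-- The characters of the normaliser which are not trivial on `K`. -/
abbrev Rels (K : Subgroup G) : Type u :=
  {χ : IrrCharacter (Nz K) // Exceptional.Rel (Kn K) (χ : ↥(Nz K) → ℂ)}

/-- The index of `K` in its normaliser. -/
noncomputable abbrev ee (K : Subgroup G) : ℕ := (Kn K).index

noncomputable instance fintypeNz (K : Subgroup G) : Fintype (Nz K) := Fintype.ofFinite _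
noncomputable instance fintypeIrrNz (K : Subgroup G) : Fintype (IrrCharacter (Nz K)) := Fintype.ofFinite _
noncomputable instance fintypeRels (K : Subgroup G) : Fintype (Rels K) := Fintype.ofFinite _

namespace Hyp

variable {K : Subgroup G} (h : Hyp K)
include h

theorem comm_Kn : IsMulCommutative (Kn K) :=
  ⟨⟨fun a b => Subtype.ext (Subtype.ext (h.ab _ a.2 _ b.2))⟩⟩

theorem cent' : ∀ n ∈ Kn K, n ≠ 1 → Subgroup.centralizer ({n} : Set ↥(Nz K)) ≤ Kn K :=
  centralizer_le_in_normalizer K h.cent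

theorem card_Kn : Nat.card (Kn K) = Nat.card K :=
  Nat.card_congr (Subgroup.subgroupOfEquivOfLe Subgroup.le_normalizer).toEquiv

theorem rel_deg (χ : Rels K) : charDegree (χ.1 : ↥(Nz K) → ℂ) = ee K := by
  obtain ⟨-, p, -, -, h1, h2⟩ := rel_induced (Kn K) h.cent' χ.1.2 χ.2
  rw [h2 h.comm_Kn, mul_one, apply_one (isCharacter_of_irr χ.1.2), Nat.cast_inj] at h1
  exact h1

theorem rel_off (χ : Rels K) {x : ↥(Nz K)} (hx : (x : G) ∉ K) : (χ.1 : ↥(Nz K) → ℂ) x = 0 :=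
  (rel_induced (Kn K) h.cent' χ.1.2 χ.2).1 x fun hk => hx hk

theorem one_lt_ee : 1 < ee K := by
  have h0 : ee K ≠ 0 := Subgroup.index_ne_zero_of_finite
  have h1 : ee K ≠ 1 := fun he => h.lt.not_ge fun x hx => by
    have : (⟨x, hx⟩ : Nz K) ∈ Kn K := by rw [Subgroup.index_eq_one.1 he]; exact Subgroup.mem_top _
    exact this
  omega

theorem card_rels_mul (hK : K ≠ ⊥) : ee K * Nat.card (Rels K) + 1 = Nat.card K := by
  classical
  have hne : Kn K ≠ ⊥ := fun he => hK (Subgroup.eq_bot_of_card_eq _ (by rw [← h.card_Kn, he, Subgroup.card_bot]))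
  have := rel_degree_identity (Kn K) h.cent' hne (fun _ => 1) fun χ hχ => by
    rw [mul_one, apply_one (isCharacter_of_irr χ.2), h.rel_deg ⟨χ, hχ⟩]
  simp only [one_pow, Finset.sum_const, smul_eq_mul, mul_one, h.card_Kn] at this
  rw [← this, Nat.card_eq_fintype_card, Fintype.card_subtype]

theorem sum_rel {k : ↥(Nz K)} (hk : (k : G) ∈ K) (hk1 : k ≠ 1) :
    ∑ χ : Rels K, (χ.1 : ↥(Nz K) → ℂ) k = -1 := by
  classical
  have hne : Kn K ≠ ⊥ := fun he => hk1 (by rw [← Subgroup.mem_bot, ← he]; exact hk)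
  obtain ⟨-, h2, -⟩ := degree_sums (Kn K) h.cent' hne
  have h3 := h2 k hk hk1
  rw [Finset.sum_subtype (p := fun χ : IrrCharacter (Nz K) => Exceptional.Rel (Kn K) (χ : ↥(Nz K) → ℂ))
    (Finset.univ.filter _) (by simp)] at h3
  simp only [h.rel_deg, ← Finset.mul_sum] at h3
  have he : (ee K : ℂ) ≠ 0 := Nat.cast_ne_zero.2 Subgroup.index_ne_zero_of_finite
  exact mul_left_cancel₀ he (by rw [h3]; ring)

theorem sum_normSq_rel {k : ↥(Nz K)} (hk : (k : G) ∈ K) (hk1 : k ≠ 1) :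
    ∑ χ : Rels K, ‖(χ.1 : ↥(Nz K) → ℂ) k‖ ^ 2 = (Nat.card K : ℝ) - ee K := by
  classical
  have hne : Kn K ≠ ⊥ := fun he => hk1 (by rw [← Subgroup.mem_bot, ← he]; exact hk)
  obtain ⟨h1, -, -⟩ := degree_sums (Kn K) h.cent' hne
  have hC : Subgroup.centralizer ({k} : Set ↥(Nz K)) = Kn K := by
    refine le_antisymm (h.cent' k hk hk1) fun y hy => Subgroup.mem_centralizer_singleton_iff.2 (Subtype.ext ?_)
    exact h.ab _ hy _ hk
  have h4 := sum_normSq_col k
  rw [hC, h.card_Kn, ← Finset.sum_filter_add_sum_filter_not Finset.univ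
      (fun χ : IrrCharacter (Nz K) => Exceptional.Rel (Kn K) (χ : ↥(Nz K) → ℂ)),
    Finset.sum_subtype (p := fun χ : IrrCharacter (Nz K) => Exceptional.Rel (Kn K) (χ : ↥(Nz K) → ℂ))
      (Finset.univ.filter _) (by simp),
    Finset.sum_congr rfl (s₁ := Finset.univ.filter fun χ : IrrCharacter (Nz K) => ¬ Exceptional.Rel (Kn K) (χ : ↥(Nz K) → ℂ))
      (g := fun χ => ((charDegree (χ : ↥(Nz K) → ℂ) ^ 2 : ℕ) : ℝ))
      (fun χ hχ => by
        rw [not_rel (Finset.mem_filter.1 hχ).2 hk, apply_one (isCharacter_of_irr χ.2)]; simp),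
    ← Nat.cast_sum, h1] at h4
  exact eq_sub_of_add_eq h4

theorem centralizer_eq {k : G} (hk : k ∈ K) (hk1 : k ≠ 1) : Subgroup.centralizer ({k} : Set G) = K :=
  le_antisymm (h.cent k hk hk1) fun y hy => Subgroup.mem_centralizer_singleton_iff.2 (h.ab y hy k hk)

theorem tiSetup : TISetup (Nz K) ((K : Set G) \ {1}) where
  subset := fun x hx => Subgroup.le_normalizer hx.1
  conj_mem := fun g hg s hs => ⟨(Subgroup.mem_normalizer_iff.1 hg s).1 hs.1, fun he => hs.2 (by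
    simpa using he)⟩
  ti := fun g hg s hs he => hs.2 (h.ti g hg s hs.1 he.1)

end Hyp

/-- The exceptional family of `K`. -/
structure Fam (K : Subgroup G) where
  ε : ℤ
  sign : ε = 1 ∨ ε = -1
  f : Rels K → IrrCharacter G
  inj : Function.Injective f
  X : ℕ
  deg : ∀ χ, charDegree (f χ : G → ℂ) = X
  ne_one : ∀ χ, f χ ≠ oneChar
  ind : ∀ χ ξ : Rels K, indFun (Nz K) ((χ.1 : ↥(Nz K) → ℂ) - (ξ.1 : ↥(Nz K) → ℂ)) =
    (ε : ℂ) • ((f χ : G → ℂ) - (f ξ : G → ℂ))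
  c : ℤ
  val : ∀ χ, ∀ k : ↥(Nz K), (k : G) ∈ K → k ≠ 1 → (f χ : G → ℂ) k = (c : ℂ) + (ε : ℂ) * (χ.1 : ↥(Nz K) → ℂ) k
  other : ∀ F : IrrCharacter G, F ∉ Set.range f → ∃ d : ℤ, ∀ k ∈ K, k ≠ 1 → (F : G → ℂ) k = (d : ℂ)

theorem exists_fam {K : Subgroup G} (h : Hyp K) (h2 : 2 ≤ Nat.card (Rels K)) : Nonempty (Fam K) := by
  classical
  rcases Cfsg.Agent.S0851.result K h.ti h.lt h.cent h.ab with ⟨h1, -⟩ | ⟨ε, f, hε, hinj, hf⟩
  · exfalso
    have : Nat.card (Rels K) = 1 := h1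
    omega
  haveI : Nontrivial (Rels K) := Finite.one_lt_card_iff_nontrivial.1 (by omega)
  obtain ⟨e, he, rfl⟩ : ∃ e : ℤ, (e = 1 ∨ e = -1) ∧ (e : ℂ) = ε := by
    rcases hε with rfl | rfl
    · exact ⟨1, Or.inl rfl, Int.cast_one⟩
    · exact ⟨-1, Or.inr rfl, by simp⟩
  have he0 : (e : ℂ) ≠ 0 := by rcases he with rfl | rfl <;> simp
  let f' : Rels K → IrrCharacter G := f
  have hf' : ∀ χ ξ : Rels K, indFun (Nz K) ((χ.1 : ↥(Nz K) → ℂ) - (ξ.1 : ↥(Nz K) → ℂ)) =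
      (e : ℂ) • ((f' χ : G → ℂ) - (f' ξ : G → ℂ)) := fun χ ξ => hf χ ξ
  have hdeg : ∀ χ ξ, charDegree (f' χ : G → ℂ) = charDegree (f' ξ : G → ℂ) := by
    intro χ ξ
    have h1 := congrFun (hf' χ ξ) 1
    rw [indFun_apply_one, Pi.sub_apply, apply_one (isCharacter_of_irr χ.1.2), apply_one (isCharacter_of_irr ξ.1.2),
      h.rel_deg, h.rel_deg, sub_self, mul_zero, Pi.smul_apply, Pi.sub_apply, smul_eq_mul,
      apply_one (isCharacter_of_irr (f' χ).2), apply_one (isCharacter_of_irr (f' ξ).2), eq_comm, mul_eq_zero,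
      or_iff_right he0, sub_eq_zero, Nat.cast_inj] at h1
    exact h1
  have hinner : ∀ (F : IrrCharacter G) (χ ξ : Rels K),
      classInner (fun y : Nz K => (F : G → ℂ) y) (χ.1 : ↥(Nz K) → ℂ) -
        classInner (fun y : Nz K => (F : G → ℂ) y) (ξ.1 : ↥(Nz K) → ℂ) =
      (e : ℂ) * ((if F = f' χ then 1 else 0) - (if F = f' ξ then 1 else 0)) := by
    intro F χ ξ
    rw [← classInner_sub_right, ← classInner_indFun' (Nz K) _ (isClassFunction (isCharacter_of_irr F.2)), hf',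
      Exceptional.classInner_smul_right, classInner_sub_right, classInner_irr, classInner_irr, map_intCast]
  have hval : ∀ F : IrrCharacter G, ∃ d : ℤ, ∀ k : ↥(Nz K), (k : G) ∈ K → k ≠ 1 →
      (F : G → ℂ) k = (d : ℂ) + (e : ℂ) * ∑ χ : Rels K, (if F = f' χ then (χ.1 : ↥(Nz K) → ℂ) k else 0) := by
    intro F
    have hφ := isCharacter_restrict (isCharacter_of_irr F.2) (Nz K)
    choose b hb using fun ψ : IrrCharacter (Nz K) => classInner_character_nat hφ ψ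
    obtain ⟨χ₀⟩ : Nonempty (Rels K) := inferInstance
    refine ⟨-((b χ₀.1 : ℤ) - e * (if F = f' χ₀ then 1 else 0)) +
      ∑ ψ ∈ Finset.univ.filter (fun ψ : IrrCharacter (Nz K) => ¬ Exceptional.Rel (Kn K) (ψ : ↥(Nz K) → ℂ)),
        (b ψ : ℤ) * charDegree (ψ : ↥(Nz K) → ℂ), fun k hk hk1 => ?_⟩
    have h1 := congrFun (classFun_expand (isClassFunction hφ)) k
    simp only [Finset.sum_apply, Pi.smul_apply, smul_eq_mul, hb] at h1
    rw [h1, ← Finset.sum_filter_add_sum_filter_not Finset.univ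
        (fun ψ : IrrCharacter (Nz K) => Exceptional.Rel (Kn K) (ψ : ↥(Nz K) → ℂ)),
      Finset.sum_subtype (p := fun χ : IrrCharacter (Nz K) => Exceptional.Rel (Kn K) (χ : ↥(Nz K) → ℂ))
        (Finset.univ.filter _) (by simp)]
    have hrel : ∀ χ : Rels K, ((b χ.1 : ℕ) : ℂ) * (χ.1 : ↥(Nz K) → ℂ) k =
        ((b χ₀.1 : ℂ) - (e : ℂ) * (if F = f' χ₀ then 1 else 0)) * (χ.1 : ↥(Nz K) → ℂ) k +
          (e : ℂ) * (if F = f' χ then (χ.1 : ↥(Nz K) → ℂ) k else 0) := by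
      intro χ
      have := hinner F χ χ₀
      rw [hb, hb] at this
      rw [show (if F = f' χ then (χ.1 : ↥(Nz K) → ℂ) k else 0) =
        (if F = f' χ then (1 : ℂ) else 0) * (χ.1 : ↥(Nz K) → ℂ) k by split_ifs <;> simp]
      linear_combination ((χ.1 : ↥(Nz K) → ℂ) k) * this
    rw [Finset.sum_congr rfl fun χ _ => hrel χ, Finset.sum_add_distrib, ← Finset.mul_sum, ← Finset.mul_sum,
      h.sum_rel hk hk1]
    have hnon : ∀ ψ ∈ Finset.univ.filter (fun ψ : IrrCharacter (Nz K) => ¬ Exceptional.Rel (Kn K) (ψ : ↥(Nz K) → ℂ)),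
        ((b ψ : ℕ) : ℂ) * (ψ : ↥(Nz K) → ℂ) k = ((b ψ : ℂ) * (charDegree (ψ : ↥(Nz K) → ℂ) : ℂ)) := fun ψ hψ => by
      rw [not_rel (Finset.mem_filter.1 hψ).2 hk, apply_one (isCharacter_of_irr ψ.2)]
    rw [Finset.sum_congr rfl hnon]
    push_cast
    split_ifs <;> ring
  choose dd hdd using hval
  have hinj' : Function.Injective f' := hinj
  have hfval : ∀ χ : Rels K, ∀ k : ↥(Nz K), (k : G) ∈ K → k ≠ 1 →
      (f' χ : G → ℂ) k = (dd (f' χ) : ℂ) + (e : ℂ) * (χ.1 : ↥(Nz K) → ℂ) k := by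
    intro χ k hk hk1
    rw [hdd _ k hk hk1, Finset.sum_eq_single χ (fun ξ _ hξ => if_neg fun he => hξ (hinj' he).symm) (by simp), if_pos rfl]
  obtain ⟨χ₀⟩ : Nonempty (Rels K) := inferInstance
  have hcc : ∀ χ, dd (f' χ) = dd (f' χ₀) := by
    intro χ
    obtain ⟨k, hk, hk1⟩ : ∃ k : ↥(Nz K), (k : G) ∈ K ∧ k ≠ 1 := by
      obtain ⟨k, hk, hkne⟩ := χ.2
      exact ⟨k, hk, fun he => hkne (by rw [he])⟩
    have h1 := congrFun (hf' χ χ₀) (k : G)
    rw [indFun_apply_of_mem h.tiSetup ?_ ?_ k ⟨hk, fun he => hk1 (Subtype.ext he)⟩] at h1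
    · simp only [Pi.sub_apply, Pi.smul_apply, smul_eq_mul, hfval χ k hk hk1, hfval χ₀ k hk hk1] at h1
      apply Int.cast_injective (α := ℂ)
      have h2 : (e : ℂ) * (e : ℂ) = 1 := by rcases he with rfl | rfl <;> simp
      have h3 : (e : ℂ) * ((dd (f' χ) : ℂ) - (dd (f' χ₀) : ℂ)) = 0 := by
        linear_combination -h1 - ((χ.1 : ↥(Nz K) → ℂ) k - (χ₀.1 : ↥(Nz K) → ℂ) k) * h2
      exact sub_eq_zero.1 ((mul_eq_zero.1 h3).resolve_left he0)
    · intro x y
      simp only [Pi.sub_apply]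
      rw [isClassFunction (isCharacter_of_irr χ.1.2), isClassFunction (isCharacter_of_irr χ₀.1.2)]
    · intro x hx
      by_cases hxK : (x : G) ∈ K
      · have hx1 : x = 1 := Subtype.ext (by_contra fun hne => hx ⟨hxK, hne⟩)
        rw [hx1, Pi.sub_apply, apply_one (isCharacter_of_irr χ.1.2), apply_one (isCharacter_of_irr χ₀.1.2),
          h.rel_deg, h.rel_deg, sub_self]
      · rw [Pi.sub_apply, h.rel_off χ hxK, h.rel_off χ₀ hxK, sub_self]
  have hne1 : ∀ χ, f' χ ≠ oneChar := by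
    intro χ hχ
    obtain ⟨ξ, hξ⟩ := exists_ne χ
    have h1 := hinner oneChar χ ξ
    have h0 : ∀ ζ : Rels K, classInner (fun y : Nz K => ((oneChar : IrrCharacter G) : G → ℂ) y)
        (ζ.1 : ↥(Nz K) → ℂ) = 0 := fun ζ =>
      classInner_ne isIrrCharacter_one ζ.1.2 (rel_ne_one (Kn K) h.cent' ζ.1.2 ζ.2).symm
    rw [h0, h0, if_pos hχ.symm, if_neg (fun he' => hξ (hinj (hχ.trans he')).symm), sub_zero, sub_zero, mul_one] at h1
    exact he0 h1.symm
  refine ⟨⟨e, he, f', hinj, charDegree (f' χ₀ : G → ℂ), fun χ => hdeg χ χ₀, hne1, hf', dd (f' χ₀),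
    fun χ k hk hk1 => by rw [hfval χ k hk hk1, hcc χ], fun F hF => ⟨dd F, fun k hk hk1 => ?_⟩⟩⟩
  have := hdd F ⟨k, Subgroup.le_normalizer hk⟩ hk fun he => hk1 (congrArg Subtype.val he)
  rw [this, Finset.sum_eq_zero (fun χ _ => if_neg fun he => hF ⟨χ, he.symm⟩), mul_zero, add_zero]

namespace Fam

variable {K : Subgroup G} (h : Hyp K) (F : Fam K)
include h

theorem sum_normSq_val {k : ↥(Nz K)} (hk : (k : G) ∈ K) (hk1 : k ≠ 1) :
    ∑ χ : Rels K, ‖(F.f χ : G → ℂ) k‖ ^ 2 =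
      (Nat.card (Rels K) : ℝ) * (F.c : ℝ) ^ 2 - 2 * F.ε * F.c + ((Nat.card K : ℝ) - ee K) := by
  have e1 : ∀ χ : Rels K, ‖(F.f χ : G → ℂ) k‖ ^ 2 =
      (F.c : ℝ) ^ 2 + 2 * F.ε * F.c * ((χ.1 : ↥(Nz K) → ℂ) k).re + ‖(χ.1 : ↥(Nz K) → ℂ) k‖ ^ 2 := by
    intro χ
    rw [F.val χ k hk hk1, Complex.sq_norm, Complex.sq_norm, Complex.normSq_apply, Complex.normSq_apply]
    rcases F.sign with h' | h' <;> rw [h'] <;> simp <;> ring
  rw [Finset.sum_congr rfl fun χ _ => e1 χ, Finset.sum_add_distrib, Finset.sum_add_distrib, ← Finset.mul_sum,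
    ← Complex.re_sum, h.sum_rel hk hk1, h.sum_normSq_rel hk hk1, Finset.sum_const, Finset.card_univ,
    ← Nat.card_eq_fintype_card, nsmul_eq_mul]
  simp
  ring

/-- The column bound: characters outside the family are small on `K`. -/
theorem col_bound {k : G} (hk : k ∈ K) (hk1 : k ≠ 1) (S : Finset (IrrCharacter G))
    (hS : ∀ φ ∈ S, φ ∉ Set.range F.f ∧ φ ≠ oneChar) :
    1 + (Nat.card (Rels K) : ℝ) * (F.c : ℝ) ^ 2 - 2 * F.ε * F.c + ∑ φ ∈ S, ‖(φ : G → ℂ) k‖ ^ 2 ≤ ee K := by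
  classical
  haveI : Fintype (IrrCharacter G) := Fintype.ofFinite _
  have h1 := sum_normSq_col (G := G) k
  rw [h.centralizer_eq hk hk1] at h1
  have hd : Disjoint (Finset.univ.image F.f) S := by
    rw [Finset.disjoint_right]
    intro φ hφ hc
    obtain ⟨χ, -, rfl⟩ := Finset.mem_image.1 hc
    exact (hS _ hφ).1 ⟨χ, rfl⟩
  have hn : (oneChar : IrrCharacter G) ∉ Finset.univ.image F.f ∪ S := by
    rw [Finset.mem_union, not_or]
    exact ⟨fun hc => by obtain ⟨χ, -, he⟩ := Finset.mem_image.1 hc; exact F.ne_one χ he, fun hc => (hS _ hc).2 rfl⟩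
  have h2 : ∑ φ ∈ insert (oneChar : IrrCharacter G) (Finset.univ.image F.f ∪ S), ‖(φ : G → ℂ) k‖ ^ 2 ≤
      ∑ φ : IrrCharacter G, ‖(φ : G → ℂ) k‖ ^ 2 :=
    Finset.sum_le_sum_of_subset_of_nonneg (Finset.subset_univ _) fun φ _ _ => sq_nonneg _
  rw [Finset.sum_insert hn, Finset.sum_union hd, Finset.sum_image F.inj.injOn, oneChar_apply, norm_one, one_pow,
    h1] at h2
  have h3 : ∑ χ : Rels K, ‖(F.f χ : G → ℂ) k‖ ^ 2 = _ :=
    F.sum_normSq_val h (k := ⟨k, Subgroup.le_normalizer hk⟩) hk fun he => hk1 (congrArg Subtype.val he)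
  linarith

theorem card_mul_sq_le (h2 : 2 ≤ Nat.card (Rels K)) :
    (0 : ℝ) ≤ (Nat.card (Rels K) : ℝ) * (F.c : ℝ) ^ 2 - 2 * F.ε * F.c := by
  have h2' : (2 : ℝ) ≤ Nat.card (Rels K) := by exact_mod_cast h2
  have h3 : 0 ≤ F.c * (F.c - F.ε) := by
    rcases F.sign with h' | h' <;> rw [h']
    · rcases le_or_gt F.c 0 with hc | hc
      · exact mul_nonneg_of_nonpos_of_nonpos hc (by omega)
      · exact mul_nonneg hc.le (by omega)
    · rcases le_or_gt 0 F.c with hc | hc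
      · exact mul_nonneg hc (by omega)
      · exact mul_nonneg_of_nonpos_of_nonpos hc.le (by omega)
  have h4 : (0 : ℝ) ≤ (F.c : ℝ) * ((F.c : ℝ) - F.ε) := by exact_mod_cast h3
  nlinarith [sq_nonneg (F.c : ℝ)]

/-- The part of the norms of the family carried by the conjugates of `K`. -/
theorem sum_norm_K (h2 : 2 ≤ Nat.card (Rels K)) [Fintype {k : K // k ≠ 1}] :
    ((Nat.card K : ℝ) - 1) * ((Nat.card K : ℝ) - ee K) ≤
      ∑ k : {k : K // k ≠ 1}, ∑ χ : Rels K, ‖(F.f χ : G → ℂ) (k.1 : G)‖ ^ 2 := by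
  classical
  have hc : (Fintype.card {k : K // k ≠ 1} : ℝ) = (Nat.card K : ℝ) - 1 := by
    rw [Fintype.card_subtype_compl, Fintype.card_subtype_eq, ← Nat.card_eq_fintype_card,
      Nat.cast_sub Nat.card_pos, Nat.cast_one]
  rw [← hc, ← nsmul_eq_mul, ← Finset.card_univ, ← Finset.sum_const]
  refine Finset.sum_le_sum fun k _ => ?_
  have h3 := F.sum_normSq_val h (k := ⟨(k.1 : G), Subgroup.le_normalizer k.1.2⟩) k.1.2
    fun he => k.2 (Subtype.ext (congrArg (fun y : Nz K => (y : G)) he))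
  rw [h3]
  linarith [F.card_mul_sq_le h h2]

end Fam

/-- The conjugates of disjoint TI sets carry at most the whole sum of a non-negative class function. -/
theorem sum_classes_le {ι : Type*} [Fintype ι] (K : ι → Subgroup G) (hK : ∀ i, Hyp (K i))
    (hdis : ∀ i j, i ≠ j → ∀ g : G, ∀ k ∈ K i, g * k * g⁻¹ ∈ K j → k = 1) [∀ i, Fintype {k : K i // k ≠ 1}]
    (Φ : G → ℝ) (hΦ : ∀ g y, Φ (y * g * y⁻¹) = Φ g) (h0 : ∀ g, 0 ≤ Φ g) :
    Φ 1 + ∑ i, ((Nz (K i)).index : ℝ) * ∑ k : {k : K i // k ≠ 1}, Φ (k.1 : G) ≤ ∑ g, Φ g := by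
  classical
  let m : (Σ i, (G ⧸ Nz (K i)) × {k : K i // k ≠ 1}) → G := fun z => z.2.1.out * (z.2.2.1 : G) * (z.2.1.out)⁻¹
  have hinj : Function.Injective m := by
    rintro ⟨i, q, k⟩ ⟨j, q', k'⟩ he
    simp only [m] at he
    have hk1 : (k.1 : G) ≠ 1 := fun h => k.2 (Subtype.ext h)
    have he' : ((q'.out)⁻¹ * q.out) * (k.1 : G) * ((q'.out)⁻¹ * q.out)⁻¹ = (k'.1 : G) := by
      rw [mul_inv_rev, inv_inv]
      rw [show (q'.out)⁻¹ * q.out * (k.1 : G) * ((q.out)⁻¹ * q'.out) =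
        (q'.out)⁻¹ * (q.out * (k.1 : G) * (q.out)⁻¹) * q'.out by group, he]
      group
    have hij : i = j := by
      by_contra hne
      exact hk1 (hdis i j hne _ _ k.1.2 (by rw [he']; exact k'.1.2))
    subst hij
    have hn : (q'.out)⁻¹ * q.out ∈ Nz (K i) := by
      by_contra hn
      exact hk1 ((hK i).ti _ hn _ k.1.2 (by rw [he']; exact k'.1.2))
    have hq : q = q' := by
      have : QuotientGroup.mk (s := Nz (K i)) q'.out = QuotientGroup.mk q.out := QuotientGroup.eq.2 hn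
      rwa [QuotientGroup.out_eq', QuotientGroup.out_eq', eq_comm] at this
    subst hq
    rw [mul_left_inj, mul_right_inj] at he
    rw [Subtype.ext (Subtype.ext he)]
  have h1 : ∑ z, Φ (m z) = ∑ i, ((Nz (K i)).index : ℝ) * ∑ k : {k : K i // k ≠ 1}, Φ (k.1 : G) := by
    rw [Fintype.sum_sigma]
    refine Finset.sum_congr rfl fun i _ => ?_
    rw [Fintype.sum_prod_type]
    simp only [m, hΦ]
    rw [Finset.sum_comm, Finset.mul_sum]
    refine Finset.sum_congr rfl fun k _ => ?_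
    show ∑ _x : G ⧸ Nz (K i), Φ (k.1 : G) = _
    rw [Finset.sum_const, Finset.card_univ, nsmul_eq_mul, ← Nat.card_eq_fintype_card]
    rfl
  have hne : ∀ z, m z ≠ 1 := fun z he => z.2.2.2 (Subtype.ext (by simpa [m] using he))
  rw [← h1, ← Finset.sum_image (f := Φ) hinj.injOn, ← Finset.sum_insert (f := Φ) (a := (1 : G)) (fun hc => by obtain ⟨z, -, hz⟩ := Finset.mem_image.1 hc; exact hne z hz)]
  exact Finset.sum_le_sum_of_subset_of_nonneg (Finset.subset_univ _) fun g _ _ => h0 g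

end CfsgLib.CA
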