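import Cfsg.Agent.CA.Family
import Mathlib.GroupTheory.Transfer
import Mathlib.GroupTheory.Sylow

/-!
# Groups with abelian centralisers
-/

set_option autoImplicit false
set_option linter.style.haveILetI false

namespace CfsgLib.CA

universe u

/-- Every non-identity element has an abelian centraliser. -/
def IsCA (G : Type u) [Group G] : Prop :=
  ∀ x : G, x ≠ 1 → ∀ a ∈ Subgroup.centralizer ({x} : Set G), ∀ b ∈ Subgroup.centralizer ({x} : Set G), a * b = b * a

variable {G : Type u} [Group G]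

/-- The centraliser of an element. -/
abbrev Cn (x : G) : Subgroup G := Subgroup.centralizer ({x} : Set G)

theorem mem_Cn {x y : G} : y ∈ Cn x ↔ y * x = x * y := Subgroup.mem_centralizer_singleton_iff

theorem self_mem_Cn (x : G) : x ∈ Cn x := mem_Cn.2 rfl

theorem Cn_eq (hCA : IsCA G) {x a : G} (hx : x ≠ 1) (ha : a ∈ Cn x) (ha1 : a ≠ 1) : Cn a = Cn x := by
  refine le_antisymm (fun y hy => mem_Cn.2 ?_) fun y hy => mem_Cn.2 (hCA x hx y hy a ha)
  exact hCA a ha1 y hy x (mem_Cn.2 (mem_Cn.1 ha).symm)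

theorem map_Cn (g x : G) : (Cn x).map (MulAut.conj g).toMonoidHom = Cn (g * x * g⁻¹) := by
  ext y
  rw [Subgroup.mem_map_equiv, mem_Cn, mem_Cn, MulAut.conj_symm_apply]
  constructor <;> intro h
  · calc y * (g * x * g⁻¹) = g * (g⁻¹ * y * g * x) * g⁻¹ := by group
      _ = g * (x * (g⁻¹ * y * g)) * g⁻¹ := by rw [h]
      _ = g * x * g⁻¹ * y := by group
  · calc g⁻¹ * y * g * x = g⁻¹ * (y * (g * x * g⁻¹)) * g := by group
      _ = g⁻¹ * (g * x * g⁻¹ * y) * g := by rw [h]
      _ = x * (g⁻¹ * y * g) := by group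

theorem mem_normalizer_of_conj [Finite G] (hCA : IsCA G) {x g k : G} (hx : x ≠ 1) (hk : k ∈ Cn x) (hk1 : k ≠ 1)
    (h : g * k * g⁻¹ ∈ Cn x) : g ∈ Subgroup.normalizer (Cn x : Set G) := by
  have h1 : Cn (g * k * g⁻¹) = Cn x := Cn_eq hCA hx h (by simpa using hk1)
  rw [← map_Cn, Cn_eq hCA hx hk hk1] at h1
  refine Subgroup.mem_normalizer_iff.2 fun y => ⟨fun hy => h1.le ⟨y, hy, rfl⟩, fun hy => ?_⟩
  obtain ⟨z, hz, hzy⟩ := h1.ge hy
  rwa [← (MulAut.conj g).injective hzy]

theorem hyp_Cn [Fintype G] (hCA : IsCA G) {x : G} (hx : x ≠ 1) (hlt : Cn x < Subgroup.normalizer (Cn x : Set G)) :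
    Hyp (Cn x) where
  ti := fun g hg k hk h => by_contra fun hk1 => hg (mem_normalizer_of_conj hCA hx hk hk1 h)
  lt := hlt
  cent := fun k hk hk1 => (Cn_eq hCA hx hk hk1).le
  ab := hCA x hx

/-- The centraliser contains a Sylow subgroup for each prime dividing its order. -/
theorem exists_sylow_le [Finite G] (hCA : IsCA G) {x : G} (hx : x ≠ 1) {p : ℕ} [Fact p.Prime]
    (hd : p ∣ Nat.card (Cn x)) : ∃ P : Sylow p G, (P : Subgroup G) ≤ Cn x := by
  have hp : p.Prime := Fact.out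
  obtain ⟨⟨y, hy⟩, hoy⟩ := exists_prime_orderOf_dvd_card' p hd
  rw [Subgroup.orderOf_mk] at hoy
  have hy1 : y ≠ 1 := fun h => hp.ne_one (by rw [← hoy, h, orderOf_one])
  obtain ⟨P, hP⟩ := (IsPGroup.of_card (n := 1) (by rw [Nat.card_zpowers, hoy, pow_one]) :
    IsPGroup p (Subgroup.zpowers y)).exists_le_sylow
  haveI : Nontrivial (P : Subgroup G) := ⟨⟨⟨y, hP (Subgroup.mem_zpowers y)⟩, 1, fun h => hy1 (congrArg Subtype.val h)⟩⟩
  haveI := P.isPGroup'.center_nontrivial
  obtain ⟨z, hz⟩ := exists_ne (1 : Subgroup.center ↥(P : Subgroup G))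
  have hz1 : ((z : ↥(P : Subgroup G)) : G) ≠ 1 := fun h => hz (Subtype.ext (Subtype.ext h))
  have hc : ∀ a ∈ (P : Subgroup G), a * ((z : ↥(P : Subgroup G)) : G) = (z : ↥(P : Subgroup G)) * a := fun a ha =>
    congrArg Subtype.val (Subgroup.mem_center_iff.1 z.2 ⟨a, ha⟩)
  refine ⟨P, fun a ha => ?_⟩
  have hzC : ((z : ↥(P : Subgroup G)) : G) ∈ Cn y := mem_Cn.2 (hc y (hP (Subgroup.mem_zpowers y))).symm
  rw [← Cn_eq hCA hx hy hy1, ← Cn_eq hCA hy1 hzC hz1]
  exact mem_Cn.2 (hc a ha)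

theorem conj_of_common_prime [Finite G] (hCA : IsCA G) {x y : G} (hx : x ≠ 1) (hy : y ≠ 1) {p : ℕ} [Fact p.Prime]
    (hdx : p ∣ Nat.card (Cn x)) (hdy : p ∣ Nat.card (Cn y)) :
    ∃ g : G, Cn y = (Cn x).map (MulAut.conj g).toMonoidHom := by
  obtain ⟨P, hP⟩ := exists_sylow_le hCA hx hdx
  obtain ⟨Q, hQ⟩ := exists_sylow_le hCA hy hdy
  obtain ⟨g, hg⟩ := MulAction.exists_smul_eq G P Q
  haveI := (Q : Subgroup G).nontrivial_iff_ne_bot.2 (Q.ne_bot_of_dvd_card (hdy.trans (Subgroup.card_subgroup_dvd_card _)))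
  obtain ⟨⟨u, hu⟩, hu1⟩ := exists_ne (1 : (Q : Subgroup G))
  have hu' : u ∈ ((g • P : Sylow p G) : Subgroup G) := by rw [hg]; exact hu
  obtain ⟨v, hv, hvu⟩ := Subgroup.mem_map.1 hu'
  have hvu' : g * v * g⁻¹ = u := hvu
  have hu1' : u ≠ 1 := fun h => hu1 (Subtype.ext h)
  have hv1 : v ≠ 1 := fun h => hu1' (by rw [← hvu', h, mul_one, mul_inv_cancel])
  refine ⟨g, ?_⟩
  rw [map_Cn, ← Cn_eq hCA hy (hQ hu) hu1', ← hvu', ← map_Cn, Cn_eq hCA hx (hP hv) hv1, map_Cn]

theorem ne_top_of_noncomm (hCA : IsCA G) (hna : ∃ a b : G, a * b ≠ b * a) {x : G} (hx : x ≠ 1) : Cn x ≠ ⊤ := by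
  intro h
  obtain ⟨a, b, hab⟩ := hna
  exact hab (hCA x hx a (h.ge (Subgroup.mem_top a)) b (h.ge (Subgroup.mem_top b)))

/-- In a simple group the centraliser is not its own normaliser (Burnside transfer). -/
theorem lt_normalizer [Finite G] (hCA : IsCA G) (hna : ∃ a b : G, a * b ≠ b * a)
    (hsimple : ∀ N : Subgroup G, N.Normal → N = ⊥ ∨ N = ⊤) {x : G} (hx : x ≠ 1) :
    Cn x < Subgroup.normalizer (Cn x : Set G) := by
  refine lt_of_le_of_ne Subgroup.le_normalizer fun heq => ?_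
  obtain ⟨p, hp, hpd⟩ := Nat.exists_prime_and_dvd (show orderOf x ≠ 1 from fun h => hx (orderOf_eq_one_iff.1 h))
  haveI := Fact.mk hp
  have hpC : p ∣ Nat.card (Cn x) := hpd.trans (Subgroup.orderOf_dvd_natCard _ (self_mem_Cn x))
  obtain ⟨P, hP⟩ := exists_sylow_le hCA hx hpC
  have hPne : (P : Subgroup G) ≠ ⊥ := P.ne_bot_of_dvd_card (hpC.trans (Subgroup.card_subgroup_dvd_card _))
  obtain ⟨⟨u, hu⟩, hu1⟩ := (Subgroup.nontrivial_iff_exists_ne_one _).1 ((P : Subgroup G).nontrivial_iff_ne_bot.2 hPne)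
    |> fun ⟨u, hu, hu1⟩ => (⟨⟨u, hu⟩, hu1⟩ : ∃ u : (P : Subgroup G), (u : G) ≠ 1)
  have hN : Subgroup.normalizer ((P : Subgroup G) : Set G) ≤ Subgroup.centralizer ((P : Subgroup G) : Set G) := by
    intro g hg
    have hg' : g ∈ Cn x := by
      rw [heq]
      exact mem_normalizer_of_conj hCA hx (hP hu) hu1 (hP ((Subgroup.mem_normalizer_iff.1 hg u).1 hu))
    exact Subgroup.mem_centralizer_iff.2 fun a ha => hCA x hx a (hP ha) g hg'
  have hcompl := MonoidHom.ker_transferSylow_isComplement' P hN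
  rcases hsimple _ (MonoidHom.normal_ker (MonoidHom.transferSylow P hN)) with h | h
  · rw [h] at hcompl
    have hPtop : (P : Subgroup G) = ⊤ := Subgroup.isComplement'_bot_left.1 hcompl
    exact ne_top_of_noncomm hCA hna hx (top_le_iff.1 (hPtop ▸ hP))
  · rw [h] at hcompl
    exact hPne (Subgroup.isComplement'_top_left.1 hcompl)

/-- The centralisers of non-identity elements meet the normalisers of their conjugates in the obvious way. -/
theorem mem_of_mem_normalizer [Fintype G] {K : Subgroup G} (hK : Hyp K) {y : G} (hy : y ∈ Subgroup.normalizer (K : Set G))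
    (hord : orderOf y ∣ Nat.card K) : y ∈ K := by
  classical
  by_cases hbot : K = ⊥
  · rw [hbot, Subgroup.card_bot, Nat.dvd_one, orderOf_eq_one_iff] at hord
    rw [hord]; exact one_mem _
  have h1 := hK.card_rels_mul hbot
  have hcop : (Nat.card K).Coprime (ee K) := by
    refine Nat.coprime_of_dvd fun q hq hqa hqe => hq.one_lt.ne' ?_
    rw [← h1] at hqa
    exact Nat.dvd_one.1 ((Nat.dvd_add_right (hqe.mul_right _)).1 hqa)
  let q : Nz K := ⟨y, hy⟩
  have ho : orderOf (QuotientGroup.mk' (Kn K) q) = 1 := by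
    refine Nat.eq_one_of_dvd_coprimes hcop ?_ ?_
    · refine (orderOf_map_dvd _ q).trans ?_
      rwa [Subgroup.orderOf_mk]
    · exact orderOf_dvd_natCard _
  rw [orderOf_eq_one_iff, QuotientGroup.mk'_apply, QuotientGroup.eq_one_iff] at ho
  exact ho

/-- The number of conjugates of `K` exceeds the order of `K`. -/
theorem card_lt_index [Fintype G] {K : Subgroup G} (hK : Hyp K) (hne : Subgroup.normalizer (K : Set G) ≠ ⊤) :
    Nat.card K < (Subgroup.normalizer (K : Set G)).index := by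
  classical
  obtain ⟨g, hg⟩ := not_forall.1 fun h => hne (eq_top_iff.2 fun g _ => h g)
  let f : Option K → G ⧸ Subgroup.normalizer (K : Set G) := fun o =>
    o.elim (QuotientGroup.mk 1) fun a => QuotientGroup.mk ((a : G) * g)
  have hf : Function.Injective f := by
    rintro (_ | a) (_ | b) h <;> simp only [f, Option.elim] at h
    · rfl
    · refine absurd ?_ hg
      have h1 := QuotientGroup.eq.1 h
      rw [inv_one, one_mul] at h1
      simpa using mul_mem (inv_mem (Subgroup.le_normalizer b.2)) h1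
    · refine absurd ?_ hg
      have h1 := QuotientGroup.eq.1 h.symm
      rw [inv_one, one_mul] at h1
      simpa using mul_mem (inv_mem (Subgroup.le_normalizer a.2)) h1
    · have h1 := QuotientGroup.eq.1 h
      have h2 : g⁻¹ * ((a : G)⁻¹ * b) * g ∈ Subgroup.normalizer (K : Set G) := by
        simpa [mul_assoc] using h1
      have hab : (a : G)⁻¹ * b ∈ K := K.mul_mem (K.inv_mem a.2) b.2
      have h3 : g⁻¹ * ((a : G)⁻¹ * b) * g ∈ K := by
        refine mem_of_mem_normalizer hK h2 ?_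
        have : orderOf (g⁻¹ * ((a : G)⁻¹ * b) * g) = orderOf ((a : G)⁻¹ * b) := by
          simpa using MulEquiv.orderOf_eq (MulAut.conj g⁻¹) ((a : G)⁻¹ * b)
        rw [this]
        exact Subgroup.orderOf_dvd_natCard _ hab
      have h4 : (a : G)⁻¹ * b = 1 := hK.ti g⁻¹ (fun h => hg (by simpa using inv_mem h)) _ hab (by simpa using h3)
      rw [Subtype.ext (inv_mul_eq_one.1 h4)]
  have := Nat.card_le_card_of_injective f hf
  rw [Finite.card_option] at this
  exact this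

end CfsgLib.CA
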